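import Mathlib
import Cfsg.Agent.Lib.Helper50.HUPT.Defs

/-!
# HUPT (S3360): package [SQ]

A finite group `Q` whose commutators all lie in a central subgroup `⟨z⟩` of prime order `r`
has `|Q : Z(Q)| = r ^ (2 d)`.
-/

set_option autoImplicit false

universe v

namespace Cfsg.Agent.Lib.Helper4.HUPT

open Cfsg.Agent.Lib.Helper50.HUPT

/-- the commutator map `g ↦ cm g a` as a homomorphism into `zpowers z` -/
noncomputable def cmHom {Q : Type v} [Group Q] (z : Q) (hz : z ∈ Subgroup.center Q)
    (hc : ∀ a b : Q, cm a b ∈ Subgroup.zpowers z) (a : Q) : Q →* ↥(Subgroup.zpowers z) :=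
  MonoidHom.mk' (fun g => ⟨cm g a, hc g a⟩) (by
    intro g h
    apply Subtype.ext
    have hcen : cm h a ∈ Subgroup.center Q := (Subgroup.zpowers_le.mpr hz) (hc h a)
    have h1 := Subgroup.mem_center_iff.mp hcen
    show cm (g * h) a = cm g a * cm h a
    unfold cm at h1 ⊢
    calc g * h * a * (g * h)⁻¹ * a⁻¹ = g * (h * a * h⁻¹ * a⁻¹) * a * g⁻¹ * a⁻¹ := by group
      _ = (h * a * h⁻¹ * a⁻¹) * g * a * g⁻¹ * a⁻¹ := by rw [h1 g]
      _ = (h * a * h⁻¹ * a⁻¹) * (g * a * g⁻¹ * a⁻¹) := by group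
      _ = g * a * g⁻¹ * a⁻¹ * (h * a * h⁻¹ * a⁻¹) := (h1 _).symm)

theorem cmHom_apply {Q : Type v} [Group Q] (z : Q) (hz : z ∈ Subgroup.center Q)
    (hc : ∀ a b : Q, cm a b ∈ Subgroup.zpowers z) (a g : Q) :
    ((cmHom z hz hc a g : ↥(Subgroup.zpowers z)) : Q) = cm g a := rfl

theorem cm_eq_one_iff {Q : Type v} [Group Q] (g a : Q) : cm g a = 1 ↔ g * a = a * g := by
  unfold cm
  constructor
  · intro h
    have := congrArg (fun t => t * a * g) h
    simpa [mul_assoc] using this
  · intro h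
    rw [h]
    group

theorem sq_aux : ∀ (n : ℕ) {Q : Type v} [Group Q] [Finite Q] (r : ℕ) (z : Q), Nat.card Q = n →
    r.Prime → z ∈ Subgroup.center Q → orderOf z = r →
    (∀ a b : Q, cm a b ∈ Subgroup.zpowers z) →
    ∃ d : ℕ, (Subgroup.center Q).index = r ^ (2 * d) := by
  intro n
  induction n using Nat.strong_induction_on with
  | _ n ih =>
    intro Q _ _ r z hn hr hz hord hc
    by_cases hab : ∀ a b : Q, cm a b = 1
    · refine ⟨0, ?_⟩
      have htop : Subgroup.center Q = ⊤ := by
        rw [eq_top_iff]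
        intro g _
        rw [Subgroup.mem_center_iff]
        intro h
        exact (cm_eq_one_iff h g).mp (hab h g)
      rw [htop, Subgroup.index_top]
      simp
    · push Not at hab
      obtain ⟨a, b, hab⟩ := hab
      have hfact : Fact r.Prime := ⟨hr⟩
      have hcardz : Nat.card ↥(Subgroup.zpowers z) = r := by rw [Nat.card_zpowers, hord]
      have hφba : cmHom z hz hc b a ≠ 1 := by
        intro h
        exact hab (congrArg Subtype.val h)
      have hφab : cmHom z hz hc a b ≠ 1 := by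
        intro h
        have h1 : cm b a = 1 := congrArg Subtype.val h
        apply hab
        rw [cm_eq_one_iff] at h1 ⊢
        exact h1.symm
      have hφaa : cmHom z hz hc a a = 1 := by
        apply Subtype.ext
        show cm a a = 1
        rw [cm_eq_one_iff]
      have hφbb : cmHom z hz hc b b = 1 := by
        apply Subtype.ext
        show cm b b = 1
        rw [cm_eq_one_iff]
      have hsurj_a : ∀ t : ↥(Subgroup.zpowers z), ∃ i : ℤ, cmHom z hz hc a (b ^ i) = t := by
        intro t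
        have h1 : t ∈ Subgroup.zpowers (cmHom z hz hc a b) := mem_zpowers_of_prime_card hcardz hφab
        obtain ⟨i, hi⟩ := Subgroup.mem_zpowers_iff.mp h1
        exact ⟨i, by rw [map_zpow]; exact hi⟩
      have hsurj_b : ∀ t : ↥(Subgroup.zpowers z), ∃ j : ℤ, cmHom z hz hc b (a ^ j) = t := by
        intro t
        have h1 : t ∈ Subgroup.zpowers (cmHom z hz hc b a) := mem_zpowers_of_prime_card hcardz hφba
        obtain ⟨j, hj⟩ := Subgroup.mem_zpowers_iff.mp h1
        exact ⟨j, by rw [map_zpow]; exact hj⟩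
      have hidx_a : (cmHom z hz hc a).ker.index = r := by
        rw [Subgroup.index_ker]
        have hr' : (cmHom z hz hc a).range = ⊤ := by
          rw [eq_top_iff]
          intro t _
          obtain ⟨i, hi⟩ := hsurj_a t
          exact ⟨_, hi⟩
        rw [hr', Subgroup.card_top, hcardz]
      have hrel : (cmHom z hz hc b).ker.relIndex (cmHom z hz hc a).ker = r := by
        have hk : ((cmHom z hz hc b).comp (cmHom z hz hc a).ker.subtype).ker =
            (cmHom z hz hc b).ker.subgroupOf (cmHom z hz hc a).ker := by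
          ext x
          simp [MonoidHom.mem_ker, Subgroup.mem_subgroupOf]
        rw [Subgroup.relIndex, ← hk, Subgroup.index_ker]
        have hr' : ((cmHom z hz hc b).comp (cmHom z hz hc a).ker.subtype).range = ⊤ := by
          rw [eq_top_iff]
          intro t _
          obtain ⟨j, hj⟩ := hsurj_b t
          refine ⟨⟨a ^ j, ?_⟩, hj⟩
          rw [MonoidHom.mem_ker, map_zpow, hφaa, one_zpow]
        rw [hr', Subgroup.card_top, hcardz]
      have hQ₁idx : ((cmHom z hz hc b).ker ⊓ (cmHom z hz hc a).ker).index = r * r := by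
        rw [← Subgroup.relIndex_mul_index
          (inf_le_right : (cmHom z hz hc b).ker ⊓ (cmHom z hz hc a).ker ≤ (cmHom z hz hc a).ker),
          Subgroup.inf_relIndex_right, hrel, hidx_a]
      have hmemQ₁ : ∀ g : Q, g ∈ (cmHom z hz hc b).ker ⊓ (cmHom z hz hc a).ker ↔
          (g * a = a * g ∧ g * b = b * g) := by
        intro g
        rw [Subgroup.mem_inf, MonoidHom.mem_ker, MonoidHom.mem_ker]
        constructor
        · rintro ⟨h1, h2⟩
          exact ⟨(cm_eq_one_iff g a).mp (congrArg Subtype.val h2),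
            (cm_eq_one_iff g b).mp (congrArg Subtype.val h1)⟩
        · rintro ⟨h1, h2⟩
          exact ⟨Subtype.ext ((cm_eq_one_iff g b).mpr h2), Subtype.ext ((cm_eq_one_iff g a).mpr h1)⟩
      generalize hQ₁ : (cmHom z hz hc b).ker ⊓ (cmHom z hz hc a).ker = Q₁ at hQ₁idx hmemQ₁
      have hlt : Nat.card ↥Q₁ < n := by
        have h1 := Subgroup.card_mul_index Q₁
        rw [hQ₁idx, hn] at h1
        have hr2 : 2 ≤ r := hr.two_le
        have hpos : 0 < Nat.card ↥Q₁ := Nat.card_pos
        have h4 : 4 ≤ r * r := Nat.mul_le_mul hr2 hr2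
        calc Nat.card ↥Q₁ < Nat.card ↥Q₁ * 4 := by omega
          _ ≤ Nat.card ↥Q₁ * (r * r) := Nat.mul_le_mul_left _ h4
          _ = n := h1
      have hzQ₁ : z ∈ Q₁ := by
        rw [hmemQ₁]
        exact ⟨(Subgroup.mem_center_iff.mp hz a).symm, (Subgroup.mem_center_iff.mp hz b).symm⟩
      have hz₁c : (⟨z, hzQ₁⟩ : ↥Q₁) ∈ Subgroup.center ↥Q₁ := by
        rw [Subgroup.mem_center_iff]
        intro g
        apply Subtype.ext
        exact Subgroup.mem_center_iff.mp hz g
      have hz₁o : orderOf (⟨z, hzQ₁⟩ : ↥Q₁) = r := by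
        rw [← hord]
        exact Subgroup.orderOf_mk z hzQ₁
      have hc₁ : ∀ x y : ↥Q₁, cm x y ∈ Subgroup.zpowers (⟨z, hzQ₁⟩ : ↥Q₁) := by
        intro x y
        obtain ⟨k, hk⟩ := Subgroup.mem_zpowers_iff.mp (hc (x : Q) (y : Q))
        refine Subgroup.mem_zpowers_iff.mpr ⟨k, Subtype.ext ?_⟩
        rw [Subgroup.coe_zpow]
        simpa [cm] using hk
      obtain ⟨d, hd⟩ := ih (Nat.card ↥Q₁) hlt (Q := ↥Q₁) r ⟨z, hzQ₁⟩ rfl hr hz₁c hz₁o hc₁
      refine ⟨d + 1, ?_⟩
      have hle : Subgroup.center Q ≤ Q₁ := by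
        intro g hg
        rw [hmemQ₁]
        exact ⟨(Subgroup.mem_center_iff.mp hg a).symm, (Subgroup.mem_center_iff.mp hg b).symm⟩
      have hsub : (Subgroup.center Q).subgroupOf Q₁ = Subgroup.center ↥Q₁ := by
        ext x
        rw [Subgroup.mem_subgroupOf, Subgroup.mem_center_iff, Subgroup.mem_center_iff]
        constructor
        · intro hx y
          apply Subtype.ext
          exact hx y
        · intro hx g
          obtain ⟨i, hi⟩ := hsurj_a (cmHom z hz hc a g)
          obtain ⟨j, hj⟩ := hsurj_b (cmHom z hz hc b (g * (b ^ i)⁻¹))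
          have hg1 : g * (b ^ i)⁻¹ * (a ^ j)⁻¹ ∈ Q₁ := by
            rw [← hQ₁]
            refine ⟨?_, ?_⟩
            · show g * (b ^ i)⁻¹ * (a ^ j)⁻¹ ∈ (cmHom z hz hc b).ker
              rw [MonoidHom.mem_ker, map_mul, map_inv, hj, mul_inv_cancel]
            · show g * (b ^ i)⁻¹ * (a ^ j)⁻¹ ∈ (cmHom z hz hc a).ker
              rw [MonoidHom.mem_ker, map_mul, map_mul, map_inv, map_inv, hi, mul_inv_cancel,
                one_mul, map_zpow, hφaa, one_zpow, inv_one]
          have hxa : Commute (x : Q) a := ((hmemQ₁ x).mp x.2).1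
          have hxb : Commute (x : Q) b := ((hmemQ₁ x).mp x.2).2
          have h1 := congrArg Subtype.val (hx ⟨_, hg1⟩)
          have hcg : Commute (x : Q) (g * (b ^ i)⁻¹ * (a ^ j)⁻¹) := h1.symm
          have hfin : Commute (x : Q) (g * (b ^ i)⁻¹ * (a ^ j)⁻¹ * a ^ j * b ^ i) :=
            (hcg.mul_right (hxa.zpow_right j)).mul_right (hxb.zpow_right i)
          have hgg : g * (b ^ i)⁻¹ * (a ^ j)⁻¹ * a ^ j * b ^ i = g := by group
          rw [hgg] at hfin
          exact hfin.eq.symm
      rw [← Subgroup.relIndex_mul_index hle, Subgroup.relIndex, hsub, hd, hQ₁idx]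
      ring

/-- [SQ] -/
theorem pkgSq : PkgSq.{v} := by
  intro Q _ _ r z hr hz hord hc
  exact sq_aux (Nat.card Q) r z rfl hr hz hord hc

end Cfsg.Agent.Lib.Helper4.HUPT
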